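import Cfsg.Agent.TAB.He.Dat
import Cfsg.Agent.TAB.Sm1.Td
import Cfsg.Agent.H825.HT.HeFun

/-!
# The table of `He` (helper88, TAB)

Classes and characters of helper825.
`van`, `odd`, `sig`, `deg` : what VAN, ODD, GAL and KZ need.
-/

set_option autoImplicit false
set_option maxRecDepth 100000

namespace Cfsg.Agent.TAB.He

open Cfsg Cfsg.Agent.TAB.Eng Cfsg.Agent.TAB.Use Cfsg.Agent.TAB.Co Cfsg.Agent.H447.CTab
open Cfsg.Agent.H825.HT.He7 Cfsg.Agent.H300.Cls
open Cfsg.Agent.H825.SB.He (C33 gc1 gc2 gc3)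

theorem finite : Finite Spor.He := SporadicB.HeUpper.card_he_le.1

theorem X_cen (i : Fin 33) : Nat.card (Subgroup.centralizer ({X i} : Set Spor.He)) = C33.getD i 0 := by
  have := finite
  refine card_cent ?_ (by rw [KFacts.He.Classes.card_he]; exact X_card i)
  rw [KFacts.He.Classes.card_he]
  exact (by decide +kernel : ∀ i : Fin 33, C33.getD i 0 ∣ 4030387200) i

/-- the classes -/
noncomputable def CT : @ClassTab Spor.He _ finite 33 :=
  @ClassTab.mk _ _ finite _ X (fun i => C33.getD i 0) X_cov X_nc X_cen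

/-- the values on the classes -/
def onX (v : List ℤ) : List ℤ := F25.map fun t => v.getD t 0

/-- the numerical data of the classes -/
def E : Sm1.CD := ⟨O33, C33, F25, (seeds.take 3).map onX⟩

theorem gc_seeds : ∀ v ∈ seeds.take 3, GC ff v :=
  List.forall_mem_cons.2 ⟨gc_ext gc1 _ (by decide +kernel), List.forall_mem_cons.2 ⟨gc_ext gc2 _ (by decide +kernel),
    List.forall_mem_singleton.2 (gc_ext gc3 _ (by decide +kernel))⟩⟩

theorem ff_cl (g : Spor.He) : F25.getD (@ClassTab.cl _ _ finite _ CT g) 0 = ff g := by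
  have := finite
  rw [← ff_X]
  exact ff_conj (CT.isConj_cl g)

theorem seeded : Seeded Spor.He D seeds := by
  have := finite
  have h1 : E.Ok CT := ⟨X_ord, fun _ => rfl, fun v hv => by
    obtain ⟨w, hw, rfl⟩ := List.mem_map.1 hv
    refine ⟨_, gc_seeds w hw, fun i => ?_⟩
    rw [onX, List.getD_eq_getElem _ _ (by rw [List.length_map]; exact i.2), List.getElem_map,
      ← List.getD_eq_getElem _ 0, ← ff_X]
    rfl⟩
  obtain ⟨T, hm, hT⟩ := Sm1.ofTab (D := D) h1 KFacts.He.Classes.card_he (PL := [2, 3, 5, 7, 11, 13, 17, 19, 23])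
    (X := [(9, 2), (10, 2), (11, 2), (17, 2)]) (by decide +kernel) fun i p h => by
      have h2 : p = 2 ∧ Q2.getD (F25.getD i 0) 0 = D.pwf (F25.getD i 0) 2 := by
        simp only [List.mem_cons, Prod.mk.injEq, List.not_mem_nil, or_false] at h
        rcases h with ⟨h, rfl⟩ | ⟨h, rfl⟩ | ⟨h, rfl⟩ | ⟨h, rfl⟩ <;> rw [h] <;> exact ⟨rfl, rfl⟩
      rw [h2.1]
      exact (ff_cl _).trans ((ff_sq _).trans ((congrArg (Q2.getD · 0) (ff_X i)).trans h2.2))
  have h2 : ∀ g, T.ty g = ff g := fun g => (hT g).trans (ff_cl g)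
  have h3 : ON.Rat T := fun g h e => by
    obtain ⟨m, -, h4⟩ := ff_gal g h (by rwa [← h2, ← h2])
    exact ⟨m, h4⟩
  have h4 : Virt T (nth (List.replicate 25 1)) := (Virt.const 1).congr (by decide +kernel)
  have h5 : ∀ v ∈ seeds.take 3, Virt T (nth v) := fun v hv => by
    have h5 : (fun g => (nth v (T.ty g) : ℂ)) = tv ff v := funext fun g => by rw [nth_eq, h2]; rfl
    rw [Virt, h5]
    exact gc_seeds v hv
  have h6 : ∀ v ∈ seeds.drop 3, Virt T (nth v) :=
    List.forall_mem_cons.2 ⟨ON.virt_coad (k := 2) hm h3 h4 (by decide +kernel),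
      List.forall_mem_singleton.2 (ON.virt_coad (k := 4) hm h3 h4 (by decide +kernel))⟩
  exact ⟨T, hm, List.take_append_drop 3 seeds ▸ List.forall_mem_append.2 ⟨h5, h6⟩⟩

theorem classes : 33 ≤ Nat.card (ConjClasses Spor.He) := by
  have := finite
  have h := Nat.card_le_card_of_injective (fun j : Fin 33 => ConjClasses.mk (X j))
    fun i j h => X_nc i j (ConjClasses.mk_eq_mk_iff_isConj.1 h)
  rwa [Nat.card_eq_fintype_card, Fintype.card_fin] at h

theorem van : VAN.Van3 Spor.He := (@fin _ _ finite seeded classes).1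

theorem odd : OddRat Spor.He := (@fin _ _ finite seeded classes).2.1

theorem sig : OddSig Spor.He := (@fin _ _ finite seeded classes).2.2.1

theorem deg : DegList Spor.He degL := (@fin _ _ finite seeded classes).2.2.2

end Cfsg.Agent.TAB.He
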