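import Cfsg.Agent.TAB.Sm1.Tool
import Cfsg.Agent.TAB.Sm1.Fin
import Cfsg.Agent.TAB.Co.Half
import Cfsg.Agent.TAB.Co.Pair

/-!
# The table of `He` : numerical data and certificates (helper88, TAB)

The types are 0:1a 1:2a 2:2b 3:3a 4:3b 5:4a 6:4b 7:4c 8:5a 9:6a 10:7ab 11:7c 12:7de 13:8a 14:10a 15:12b 16:14ab 17:14cd
18:15a 19:17ab 20:21ab 21:28ab 22:6b 23:12a 24:21cd.
-/

set_option autoImplicit false
set_option maxRecDepth 100000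

namespace Cfsg.Agent.TAB.He

open Cfsg Cfsg.Agent.TAB.Eng Cfsg.Agent.TAB.Use Cfsg.Agent.TAB.Co

/-- the types -/
def D : Dat where
n := 25
N := 4030387200
ordL := [1, 2, 2, 3, 3, 4, 4, 4, 5, 6, 7, 7, 7, 8, 10, 12, 14, 14, 15, 17, 21, 28, 6, 12, 21]
cntL := [1, 24990, 187425, 533120, 7996800, 5997600, 10495800, 31487400, 13434624, 55977600, 6854400, 3916800,
    82252800, 251899200, 201519360, 335865600, 143942400, 575769600, 268692480, 474163200, 383846400, 287884800,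
    167932800, 335865600, 383846400]
pwL := [[],
[(1, 1)],
[(1, 2)],
[(1, 3)],
[(1, 4)],
[(1, 5), (2, 1)],
[(1, 6), (2, 2)],
[(1, 7), (2, 2)],
[(1, 8)],
[(1, 9), (2, 3), (3, 1)],
[(1, 10)],
[(1, 11)],
[(1, 12)],
[(1, 13), (2, 7), (4, 2)],
[(1, 14), (2, 8), (5, 1)],
[(1, 15), (2, 9), (3, 5), (4, 3), (6, 1)],
[(1, 16), (2, 10), (7, 1)],
[(1, 17), (2, 12), (7, 2)],
[(1, 18), (3, 8), (5, 3)],
[(1, 19)],
[(1, 20), (3, 11), (7, 3)],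
[(1, 21), (2, 16), (4, 10), (7, 5), (14, 1)],
[(1, 22), (2, 4), (3, 2)],
[(1, 23), (2, 22), (3, 6), (4, 4), (6, 2)],
[(1, 24), (3, 10), (7, 4)]]

/-- the seeds : the characters of degrees 2058, 1275, 680 and the numbers of square roots and fourth roots -/
def seeds : List (List ℤ) := [
[2058, 154, 42, 42, 0, 14, 18, 2, 8, 10, 0, 0, 0, 2, 4, 2, 0, 0, 2, 1, 0, 0, 0, 0, 0],
[1275, 75, 27, 15, 0, 7, 3, 3, 0, 3, -6, 1, 1, -1, 0, 1, -2, -1, 0, 0, 1, 0, 0, 0, 0],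
[680, 56, 8, 14, -1, 0, 8, 0, 5, 2, 8, -6, 1, 0, 1, 0, 0, 1, -1, 0, 0, 0, -1, -1, -1],
[212416, 240, 224, 106, 22, 0, 0, 8, 16, 6, 22, 1, 8, 0, 0, 0, 2, 0, 1, 1, 1, 0, 2, 0, 1],
[48193216, 0, 1344, 736, 64, 0, 0, 0, 16, 0, 64, 1, 8, 0, 0, 0, 0, 0, 1, 1, 1, 0, 0, 0, 1]]

/-- the sums of the Galois orbits of irreducible characters, but for the degrees 22050 and 7650 -/
def rest : List (List ℤ) := [
[1, 1, 1, 1, 1, 1, 1, 1, 1, 1, 1, 1, 1, 1, 1, 1, 1, 1, 1, 1, 1, 1, 1, 1, 1],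
[680, 56, 8, 14, -1, 0, 8, 0, 5, 2, 8, -6, 1, 0, 1, 0, 0, 1, -1, 0, 0, 0, -1, -1, -1],
[1275, 75, 27, 15, 0, 7, 3, 3, 0, 3, -6, 1, 1, -1, 0, 1, -2, -1, 0, 0, 1, 0, 0, 0, 0],
[1920, 64, 0, 21, 0, 8, 0, 0, -5, 1, 9, 9, 2, 0, -1, -1, 1, 0, 1, -1, 0, 1, 0, 0, 0],
[4080, 16, 48, -6, 0, 0, 0, 0, 5, -2, 6, 13, -1, 0, 1, 0, 2, -1, -1, 0, 1, 0, 0, 0, 0],
[4352, 128, 0, 14, 8, 0, 0, 0, 2, 2, -2, -9, -2, 0, -2, 0, 2, 0, -1, 0, 0, 0, 0, 0, 1],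
[6272, -64, 0, 35, 8, -8, 0, 0, -3, -1, 7, 0, 0, 0, 1, 1, -1, 0, 0, -1, 0, -1, 0, 0, 1],
[6528, 64, 0, -15, 0, -8, 0, 0, 3, 1, -3, 11, 4, 0, -1, 1, 1, 0, 0, 0, -1, -1, 0, 0, 0],
[10880, -64, 0, -1, 8, 8, 0, 0, 5, -1, -5, 2, 2, 0, 1, -1, -1, 0, -1, 0, -1, 1, 0, 0, 1],
[11900, 140, 28, 20, -7, 0, 4, 4, 0, -4, 0, -7, 0, 0, 0, 0, 0, 0, 0, 0, -1, 0, 1, 1, 0],
[13720, -56, 56, -14, 7, 0, 8, 0, -5, -2, 0, 0, 0, 0, -1, 0, 0, 0, 1, 1, 0, 0, -1, -1, 0],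
[14400, 0, -64, 0, 6, 0, 0, 0, 0, 0, 8, -6, 1, 0, 0, 0, 0, -1, 0, 1, 0, 0, 2, 0, -1],
[17493, 21, 21, -21, 0, -7, -3, 5, -7, 3, 0, 0, 0, 1, 1, -1, 0, 0, -1, 0, 0, 0, 0, 0, 0],
[20825, -55, -7, 35, -1, 1, -7, 1, 0, -1, -7, 0, 0, 1, 0, 1, 1, 0, 0, 0, 0, 1, -1, -1, -1],
[23324, -196, 28, 14, -7, 0, 4, -4, -1, 2, 0, 0, 0, 0, -1, 0, 0, 0, -1, 0, 0, 0, 1, 1, 0],
[102, 22, 6, 12, 0, 6, 6, -2, 2, 4, -3, 4, -3, 2, 2, 0, 1, -1, 2, 0, -2, -1, 0, 0, 0],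
[306, 18, -14, 0, 6, -6, 2, 2, 6, 0, 5, 12, -2, 2, -2, 0, -3, 0, 0, 0, 0, 1, -2, 2, -1],
[2058, -70, 42, 42, 0, -14, -6, 2, 8, 2, 0, 0, 0, -2, 0, -2, 0, 0, 2, 1, 0, 0, 0, 0, 0],
[2550, 70, -42, 30, 0, -2, 6, -2, 0, -2, -12, 2, 2, 2, 0, -2, 0, 0, 0, 0, 2, -2, 0, 0, 0],
[14994, 162, -14, 0, 6, -6, 2, -6, -6, 0, -7, 0, 0, -2, 2, 0, 1, 0, 0, 0, 0, 1, -2, 2, -1],
[15300, 180, -28, 0, -6, -12, 4, -4, 0, 0, -2, 12, -2, 0, 0, 0, -2, 0, 0, 0, 0, 2, 2, -2, 1],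
[22950, -90, -90, 0, 0, 6, 6, 6, 0, 0, -3, 18, -3, -2, 0, 0, 1, 1, 0, 0, 0, -1, 0, 0, 0],
[43008, 0, 0, -48, 0, 0, 0, 0, 8, 0, 0, -14, 0, 0, 0, 0, 0, 0, 2, -2, 1, 0, 0, 0, 0]]

/-- the sum -/
def u : List ℤ := [29700, 180, 36, 0, 0, 12, -12, -4, 0, 0, 6, 6, -1, 0, 0, 0, -2, 1, 0, 1, 0, -2, 0, 0, 0]

/-- the difference -/
def v : List ℤ := [14400, 0, -64, 0, -12, 0, 0, 0, 0, 0, 8, -6, 1, 0, 0, 0, 0, -1, 0, 1, 0, 0, -4, 0, 2]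

/-- the character of degree 22050 -/
def w : List ℤ := [22050, 90, -14, 0, -6, 6, -6, -2, 0, 0, 7, 0, 0, 0, 0, 0, -1, 0, 0, 1, 0, -1, -2, 0, 1]

/-- the rational character of degree 7650 -/
def w2 : List ℤ := [7650, 90, 50, 0, 6, 6, -6, -2, 0, 0, -1, 6, -1, 0, 0, 0, -1, 1, 0, 0, 0, -1, 2, 0, -1]

/-- the coefficients in the regular character -/
def wts : List ℤ := [7200, 1, 680, 1275, 1920, 4080, 4352, 6272, 6528, 10880, 11900, 13720, 14400, 17493, 20825,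
    23324, 51, 153, 1029, 1275, 7497, 7650, 11475, 21504]

/-- the orbits -/
def blocks : List (List (ℕ × ℤ)) := [[(0, 1)], [(1, 1)], [(2, 1)], [(3, 1)], [(4, 1)], [(5, 1)], [(6, 1)], [(7, 1)],
    [(8, 1)], [(9, 1)], [(10, 1)], [(11, 1)], [(12, 1)], [(13, 1)], [(14, 1)], [(15, 1), (16, 1)], [(17, 1), (18, 1)],
    [(19, 1), (20, 1)], [(21, 1), (22, 1)], [(23, 1), (24, 1)], [(25, 1), (26, 1)], [(27, 1), (28, 1)], [(29, 1), (30,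
    1)], [(31, 1)], [(32, 1)]]

/-- the degrees -/
def degL : List ℕ := [1, 680, 1275, 1920, 4080, 4352, 6272, 6528, 10880, 11900, 13720, 14400, 17493, 20825, 23324, 51,
    51, 153, 153, 1029, 1029, 1275, 1275, 7497, 7497, 7650, 7650, 11475, 11475, 21504, 21504, 22050, 7650]

/-- the table -/
def RR : Rows := ⟨degL, blocks.zip (rest ++ [w, w2])⟩

/-- the primes and the sections -/
def PL : List (ℕ × ℕ × List ℕ) := [(2, 10, [0, 3, 4, 8, 10, 12]),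
  (3, 3, [0, 1, 2, 5, 6, 8, 10, 11]),
  (5, 2, [0, 1, 3]),
  (7, 3, [0, 1, 2, 3, 4, 5]),
  (17, 1, [0])]

/-- the certificates -/
def CA : List (ℕ × ℕ × List Cert) := [
  (2, 10, [
⟨0, [.gen 0 1 0, .gen 1 1 0, .mul 1 0, .mul 1 1, .gen 2 1 0, .gen 3 1 0, .gen 4 1 0, .lin [(931, 0)], .lin [(118, 6), (844, 5), (782, 4), (931, 3),
      (363, 2)], .lin [(1, 3)], .lin [(375, 8), (478, 7), (307, 6)], .lin [(209, 8), (418, 7)], .lin [(1, 8)]], [(6, 1), (3, 4), (4, 4), (5, 8), (1,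
      16), (0, 64)]⟩,
⟨3, [.one, .gen 1 1 0, .mul 0 0, .lin [(123, 2), (688, 1), (213, 0)], .lin [(585, 3), (439, 2)], .lin [(1, 4)]], [(2, 1), (0, 2), (1, 8)]⟩,
⟨4, [.one, .gen 3 1 0, .mul 0 0, .lin [(158, 1), (691, 0)], .lin [(931, 2)], .lin [(1, 4)]], [(2, 1), (0, 2), (1, 8)]⟩,
⟨8, [.one, .gen 0 1 0, .lin [(8, 1), (767, 0)], .lin [(1, 2)]], [(0, 1), (1, 4)]⟩,
⟨10, [.one, .gen 1 1 0, .mul 0 0, .lin [(250, 1), (895, 0)], .lin [(853, 2)], .lin [(1, 4)]], [(2, 1), (0, 2), (1, 8)]⟩,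
⟨12, [.one, .gen 1 1 0, .lin [(513, 1), (511, 0)], .lin [(1, 2)]], [(0, 1), (1, 2)]⟩]),
  (3, 3, [
⟨0, [.one, .gen 0 1 0, .lin [(14, 0)], .lin [(1, 2)]], [(2, 1), (0, 3)]⟩,
⟨1, [.one, .gen 0 1 0, .lin [(4, 1), (14, 0)], .lin [(1, 2)]], [(0, 1), (1, 9)]⟩,
⟨2, [.one, .gen 0 1 0, .lin [(3, 1), (7, 0)], .lin [(1, 2)]], [(0, 1), (1, 3)]⟩,
⟨5, [.one, .gen 0 1 0, .lin [(8, 1), (11, 0)], .lin [(1, 2)]], [(0, 1), (1, 3)]⟩,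
⟨6, [.one, .gen 1 1 0, .lin [(3, 1), (17, 0)], .lin [(1, 2)]], [(0, 1), (1, 3)]⟩,
⟨8, [.one, .gen 0 1 0, .lin [(22, 1), (4, 0)], .lin [(1, 2)]], [(0, 1), (1, 3)]⟩,
⟨10, [.one, .gen 1 1 0, .lin [(3, 1), (14, 0)], .lin [(1, 2)]], [(0, 1), (1, 3)]⟩,
⟨11, [.one, .gen 2 1 0, .lin [(3, 1), (14, 0)], .lin [(1, 2)]], [(0, 1), (1, 3)]⟩]),
  (5, 2, [
⟨0, [.one, .lin [(1, 0)]], [(0, 1)]⟩,
⟨1, [.one, .gen 2 1 0, .lin [(11, 1), (19, 0)], .lin [(1, 2)]], [(0, 1), (1, 5)]⟩,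
⟨3, [.one, .gen 0 1 0, .lin [(4, 1), (13, 0)], .lin [(1, 2)]], [(0, 1), (1, 5)]⟩]),
  (7, 3, [
⟨0, [.one, .gen 1 1 0, .gen 2 1 0, .lin [(72, 2), (160, 1), (111, 0)], .lin [(6, 3), (1, 2)], .lin [(1, 4)]], [(1, 1), (3, 7), (0, 7)]⟩,
⟨1, [.one, .gen 0 1 0, .lin [(7, 1), (216, 0)], .lin [(1, 2)]], [(0, 1), (1, 7)]⟩,
⟨2, [.one, .gen 0 1 0, .lin [(7, 1), (8, 0)], .lin [(1, 2)]], [(0, 1), (1, 7)]⟩,
⟨3, [.one, .gen 0 1 0, .lin [(7, 1), (8, 0)], .lin [(1, 2)]], [(0, 1), (1, 7)]⟩,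
⟨4, [.one, .gen 3 1 0, .lin [(89, 1), (261, 0)], .lin [(1, 2)]], [(0, 1), (1, 7)]⟩,
⟨5, [.one, .gen 0 1 0, .lin [(7, 1), (73, 0)], .lin [(1, 2)]], [(0, 1), (1, 7)]⟩]),
  (17, 1, [
⟨0, [.one, .lin [(1, 0)]], [(0, 1)]⟩])]

theorem ok_A : Sm1.okC D PL CA seeds (u :: v :: rest) = true := by decide +kernel

theorem ok_H : okHalf D u v w 14850 (wts.zip (v :: rest)) = true := by decide +kernel

theorem ok_R : Sm1.okR D RR = true := by decide +kernel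

/-- **the consequences of the table** -/
theorem fin {G : Type*} [Group G] [Finite G] (h : Seeded G D seeds) (hk : 33 ≤ Nat.card (ConjClasses G)) :
    VAN.Van3 G ∧ OddRat G ∧ OddSig G ∧ DegList G degL := by
  obtain ⟨T, hm, hs⟩ := h
  have h1 := Sm1.virt_okC hm.1 hs ok_A
  have h2 := h1 u List.mem_cons_self
  have h3 := virt_half hm h2 (fun p hp => h1 _ (List.mem_cons_of_mem _ (List.of_mem_zip hp).2)) ok_H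
  have h4 : Virt T (nth w2) := (h2.add (h3.smul (-1))).congr (by decide +kernel)
  have hT : Tab T RR := Sm1.tab_of_cls hm (fun r hr => List.forall_mem_append.2
    ⟨fun r hr => h1 r (List.mem_cons_of_mem _ (List.mem_cons_of_mem _ hr)),
      List.forall_mem_cons.2 ⟨h3, List.forall_mem_singleton.2 h4⟩⟩ _ (List.of_mem_zip hr).2) ok_R hk
  have hI : Inh T := inh_of_mass hm (by decide +kernel)
  exact ⟨hT.van3 hI hm.1 [(2, 10), (3, 3), (5, 2), (7, 3), (17, 1)] (by decide) 1 17 19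
      (by decide +kernel), oddRat2 hT hI [10, 19] [17] rfl rfl (by decide +kernel),
    oddSig2 hT hI [(10, 0, 7, 3), (19, 0, 17, 6), (17, 1, 7, 3)] rfl (by decide +kernel), hT.degList⟩

end Cfsg.Agent.TAB.He
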